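import Groth.Agent.CycA.IntLocal
import Groth.Agent.VarietyA.LocDim
import Groth.Agent.Ega43.ChevalleyCrit
import Groth.Agent.CycB.DimIneq
import Groth.Agent.S0402
import Mathlib.RingTheory.KrullDimension.NonZeroDivisors

/-!
# The local dimension of a fibre

* `fibreDimAt_eq`: `fibreDimAt f x = dim O_{X_{f x},x} + trdeg κ(x)/κ(f x)`.
* `topologicalKrullDim_genericFibre`: the generic fibre of a dominant morphism of irreducible
  schemes has dimension `trdeg κ(ξ)/κ(η)`.
* `ringKrullDim_locQuot_of_forall`: `dim O_{X,x}/𝔭_ξ = dim O_{X,x}` when `ξ` specializes to all points.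
* `genericFibre_le`: the local dimension of a fibre is at least that of the generic fibre.
* `exists_dims`: the dimension inequality for irreducible schemes.
-/

set_option autoImplicit false

universe u

namespace Groth.Agent.Ega4fib.H111.FibFormula

open CategoryTheory CategoryTheory.Limits AlgebraicGeometry
open Groth.Agent.CycB Groth.Agent.CycB.RelDim

/-- `dim_x X_{f x} = dim O_{X_{f x}, x} + trdeg κ(x)/κ(f x)` for `f` locally of finite type. -/
theorem fibreDimAt_eq {X Y : Scheme.{u}} (f : X ⟶ Y) [LocallyOfFiniteType f] (x : X) :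
    ∃ n : ℕ, rtd f x = n ∧ FlatMor.fibreDimAt f x =
      ringKrullDim ((f.fiber (f x)).presheaf.stalk (f.asFiber x)) + n := by
  have hg : LocallyOfFiniteType (f.fiberToSpecResidueField (f x)) :=
    inferInstanceAs (LocallyOfFiniteType (pullback.snd f (Y.fromSpecResidueField (f x))))
  have h1 := CycA.IntLocal.rtd_eq_trdeg (K := Y.residueField (f x))
    (f.fiberToSpecResidueField (f x)) (f.asFiber x)
  let _ : (f.fiber (f x)).Over (Spec (CommRingCat.of (Y.residueField (f x)))) :=
    ⟨f.fiberToSpecResidueField (f x)⟩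
  have : LocallyOfFiniteType (f.fiber (f x) ↘ Spec (CommRingCat.of (Y.residueField (f x)))) := hg
  refine ⟨VarietyB.DimSch.trd (Y.residueField (f x)) (f.fiber (f x)) (f.asFiber x), ?_, ?_⟩
  · have h2 := rtd_fiberToSpecResidueField f (f x) (f.asFiber x)
    rw [f.fiberι_asFiber] at h2
    rw [← h2]
    exact h1
  · exact VarietyB.DimSch.localDim_eq (Y.residueField (f x)) (f.asFiber x)

/-- The generic fibre of a dominant morphism locally of finite type between irreducible schemes
is of dimension `trdeg κ(ξ)/κ(η)`. -/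
theorem topologicalKrullDim_genericFibre {X Y : Scheme.{u}} [IrreducibleSpace X]
    [IrreducibleSpace Y] (f : X ⟶ Y) [LocallyOfFiniteType f] [IsDominant f] :
    ∃ n : ℕ, rtd f (genericPoint X) = n ∧
      topologicalKrullDim ↥(f.fiber (genericPoint Y)) = n := by
  have hmap : f (genericPoint X) = genericPoint Y := Ega43.ChevalleyCrit.map_genericPoint f
  have hmem : genericPoint X ∈ Set.range (f.fiberι (genericPoint Y)) := by
    rw [Scheme.Hom.range_fiberι]
    exact hmap
  obtain ⟨z, hz⟩ := hmem
  obtain ⟨n, hn, hn'⟩ := exists_dim_closure_fiber f (genericPoint Y) z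
  rw [hz] at hn
  refine ⟨n, hn, ?_⟩
  have hcl : (closure {z} : Set ↥(f.fiber (genericPoint Y))) = Set.univ := by
    refine Set.eq_univ_of_forall fun w => ?_
    rw [← specializes_iff_mem_closure]
    refine (f.fiberι (genericPoint Y)).isEmbedding.isInducing.specializes_iff.mp ?_
    rw [hz]
    exact genericPoint_specializes _
  rw [hcl] at hn'
  rw [← hn']
  exact (IsHomeomorph.topologicalKrullDim_eq _
    (Homeomorph.Set.univ ↥(f.fiber (genericPoint Y))).isHomeomorph).symm

/-- When `ξ` specializes to every point of the scheme the quotient of `O_{X,x}` by the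
prime of `ξ` has the same dimension as `O_{X,x}`. -/
theorem ringKrullDim_locQuot_of_forall {X : Scheme.{u}} (x ξ : X)
    (h : ξ ⤳ x) (hξ : ∀ z : X, ξ ⤳ z) :
    ringKrullDim (Cyc.LocQuot x ξ h) = ringKrullDim (X.presheaf.stalk x) := by
  have hle : RingHom.ker (Cyc.specMap x ξ h) ≤ nilradical (X.presheaf.stalk x) := by
    rw [nilradical_eq_sInf]
    refine le_sInf fun P hP => ?_
    have hP' : P.IsPrime := hP
    obtain ⟨ζ, hζ, rfl⟩ := LocQuot.exists_eq_ker P
    exact (LocQuot.ker_le_iff h hζ).2 (hξ ζ)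
  have hge : nilradical (X.presheaf.stalk x) ≤ RingHom.ker (Cyc.specMap x ξ h) := by
    rw [nilradical_eq_sInf]
    exact sInf_le (RingHom.ker_isPrime _)
  change ringKrullDim (X.presheaf.stalk x ⧸ RingHom.ker (Cyc.specMap x ξ h)) = _
  rw [le_antisymm hle hge, ringKrullDim_quotient, PrimeSpectrum.zeroLocus_nilradical]
  exact Order.krullDim_eq_of_orderIso OrderIso.Set.univ

/-- Upper semicontinuity along a specialization: `dim_x X_{f x} ≥ trdeg κ(ξ)/κ(f ξ)` for every
generization `ξ` of `x`. -/
theorem rtd_le_fibreDimAt_of_specializes {X Y : Scheme.{u}} (f : X ⟶ Y) [LocallyOfFiniteType f]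
    {x ξ : X} (h : ξ ⤳ x) (e : ℕ) (he : rtd f ξ = e) : (e : WithBot ℕ∞) ≤ FlatMor.fibreDimAt f x := by
  obtain ⟨n, hn, hn'⟩ := VarietyA.LocDim.le_fibreDimAt f x x specializes_rfl rfl
  by_contra hlt
  rw [not_le] at hlt
  obtain ⟨m, hm, hme⟩ : ∃ m : ℕ, FlatMor.fibreDimAt f x = m ∧ m < e := by
    generalize FlatMor.fibreDimAt f x = t at hlt hn'
    induction t using WithBot.recBotCoe with
    | bot =>
      exact absurd hn' (by rw [le_bot_iff]; exact WithBot.coe_ne_bot)
    | coe t =>
      have h1 : t < (e : ℕ∞) := by exact_mod_cast hlt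
      obtain ⟨t', rfl⟩ := ENat.ne_top_iff_exists.mp (ne_top_of_lt h1)
      exact ⟨t', rfl, by exact_mod_cast h1⟩
  have h3 : FlatMor.fibreDimAt f ξ ≤ (m : WithBot ℕ∞) := h.mem_open (S0402.result f m) hm.le
  obtain ⟨e', he', he''⟩ := VarietyA.LocDim.le_fibreDimAt f ξ ξ specializes_rfl rfl
  have : e = e' := by
    rw [he] at he'
    exact_mod_cast he'
  subst this
  have h4 : (e : WithBot ℕ∞) ≤ (m : WithBot ℕ∞) := he''.trans h3
  have : e ≤ m := by exact_mod_cast h4
  omega

/-- Statement of EGA IV 13.1.1 for irreducible schemes: the local dimension of a fibre is at least the dimension of the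
generic fibre. -/
theorem genericFibre_le {X Y : Scheme.{u}} [IrreducibleSpace X] [IrreducibleSpace Y]
    (f : X ⟶ Y) [LocallyOfFiniteType f] [IsDominant f] (x : X) :
    topologicalKrullDim ↥(f.fiber (genericPoint Y)) ≤ FlatMor.fibreDimAt f x := by
  obtain ⟨e, he, hdim⟩ := topologicalKrullDim_genericFibre f
  rw [hdim]
  exact rtd_le_fibreDimAt_of_specializes f (genericPoint_specializes x) e he

/-- The dimension inequality for irreducible schemes. -/
theorem exists_dims {X Y : Scheme.{u}} [IrreducibleSpace X] [IrreducibleSpace Y]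
    [IsLocallyNoetherian Y] (f : X ⟶ Y) [LocallyOfFiniteType f] [IsDominant f] (x : X) :
    ∃ dX dY n e : ℕ, ringKrullDim (X.presheaf.stalk x) = dX ∧
      ringKrullDim (Y.presheaf.stalk (f x)) = dY ∧ rtd f x = n ∧ rtd f (genericPoint X) = e ∧
      topologicalKrullDim ↥(f.fiber (genericPoint Y)) = e ∧ dX + n ≤ dY + e := by
  obtain ⟨n, hn, -⟩ := fibreDimAt_eq f x
  obtain ⟨e, he, hdim⟩ := topologicalKrullDim_genericFibre f
  obtain ⟨dX, dY, hX, hY, hle⟩ := DimIneq.dim_ineq f (genericPoint_specializes x)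
  rw [ringKrullDim_locQuot_of_forall _ _ _ fun z => genericPoint_specializes z] at hX
  rw [ringKrullDim_locQuot_of_forall _ _ _ fun z => by
    rw [Ega43.ChevalleyCrit.map_genericPoint f]; exact genericPoint_specializes z] at hY
  refine ⟨dX, dY, n, e, hX, hY, hn, he, hdim, ?_⟩
  change (dX : Cardinal.{u}) + rtd f x ≤ (dY : Cardinal.{u}) + rtd f (genericPoint X) at hle
  rw [hn, he] at hle
  exact_mod_cast hle

end Groth.Agent.Ega4fib.H111.FibFormula
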